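import Cfsg.Agent.LThreeMB.Quo

/-!
# From `C(a, b) / ⟨a, b⟩` to `C(s) / ⟨s⟩`, `s = a b⁻¹` (helper53)

`a, b` commuting elements of order 3, `s = a b⁻¹`, `x = a b`; `C(s)` normalizes `⟨x⟩` and `t ∈ C(s)` inverts `x`.
`chain` : `C(s)/⟨s⟩` has normal subgroups `E ≤ M`, `|E| = 3`, `|C(s)/⟨s⟩ : M| = 2`, `M/E ≅ C(a, b)/⟨a, b⟩`;
`oTwo` : if the latter is simple and nonabelian, then `O_2(C(s)/⟨s⟩) = 1`.
-/

set_option autoImplicit false

namespace Cfsg.Agent.LThreeCo1TwB.Pass

open Subgroup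
open Cfsg.Agent.LThreeMB (XX Zx)

variable {G : Type*} [Group G] {a b s x t : G}

/-- The situation. -/
structure Sit (a b s x t : G) : Prop where
  ab : a * b = b * a
  a3 : a * (a * a) = 1
  b3 : b * (b * b) = 1
  hs : s = a * b⁻¹
  hx : x = a * b
  nor : ∀ c : G, c * s = s * c → c * x * c⁻¹ = x ∨ c * x * c⁻¹ = x⁻¹
  ts : t * s = s * t
  tx : t * x * t⁻¹ = x⁻¹
  xs : x ∉ zpowers s

theorem mem_cab {g : G} : g ∈ centralizer ({a, b} : Set G) ↔ g * a = a * g ∧ g * b = b * g := by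
  rw [Subgroup.mem_centralizer_iff]
  constructor
  · intro h
    exact ⟨(h a (by simp)).symm, (h b (by simp)).symm⟩
  · rintro ⟨h1, h2⟩ y hy
    rcases hy with rfl | hy
    · exact h1.symm
    · rw [Set.mem_singleton_iff] at hy
      rw [hy]; exact h2.symm

theorem mem_cs {g : G} : g ∈ centralizer ({s} : Set G) ↔ g * s = s * g := mem_centralizer_singleton_iff

/-- a simple 2-group is abelian -/
theorem comm_of_simple_two {P : Type*} [Group P] [Finite P] [IsSimpleGroup P]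
    (h : IsPGroup 2 P) : IsMulCommutative P := by
  have : Fact (Nat.Prime 2) := ⟨Nat.prime_two⟩
  have h1 := h.center_nontrivial
  have h2 : Subgroup.center P = ⊤ := by
    rcases (inferInstance : (Subgroup.center P).Normal).eq_bot_or_eq_top with h3 | h3
    · exfalso
      rw [h3] at h1
      exact not_nontrivial _ h1
    · exact h3
  refine ⟨⟨fun p q => ?_⟩⟩
  have h3 : p ∈ Subgroup.center P := h2 ▸ Subgroup.mem_top p
  exact (Subgroup.mem_center_iff.1 h3 q).symm

namespace Sit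

variable (S : Sit a b s x t)
include S

theorem inv_a : a⁻¹ = a * a := (eq_inv_of_mul_eq_one_right S.a3).symm

theorem inv_b : b⁻¹ = b * b := (eq_inv_of_mul_eq_one_right S.b3).symm

theorem x_cube : x * (x * x) = 1 := by
  have hc : Commute a b := S.ab
  have h1 : a ^ 3 = 1 := by rw [pow_succ', pow_two]; exact S.a3
  have h2 : b ^ 3 = 1 := by rw [pow_succ', pow_two]; exact S.b3
  have : x ^ 3 = 1 := by rw [S.hx, hc.mul_pow, h1, h2, one_mul]
  rwa [pow_succ', pow_two] at this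

theorem s_cube : s * (s * s) = 1 := by
  have hc : Commute a b⁻¹ := (show Commute a b from S.ab).inv_right
  have h1 : a ^ 3 = 1 := by rw [pow_succ', pow_two]; exact S.a3
  have h2 : b ^ 3 = 1 := by rw [pow_succ', pow_two]; exact S.b3
  have : s ^ 3 = 1 := by rw [S.hs, hc.mul_pow, h1, inv_pow, h2, inv_one, one_mul]
  rwa [pow_succ', pow_two] at this

theorem a_eq : a = (s * x)⁻¹ := by
  have hc : Commute a b := S.ab
  have h : s * x = a * a := by
    calc s * x = a * (b⁻¹ * a) * b := by rw [S.hs, S.hx]; group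
      _ = a * (a * b⁻¹) * b := by rw [(hc.symm.inv_left).eq]
      _ = a * a := by group
  rw [h, ← S.inv_a, inv_inv]

theorem b_eq : b = (x * s⁻¹)⁻¹ := by
  have hc : Commute a b := S.ab
  have h : x * s⁻¹ = b * b := by
    calc x * s⁻¹ = (a * b) * b * a⁻¹ := by rw [S.hs, S.hx]; group
      _ = (b * a) * b * a⁻¹ := by rw [S.ab]
      _ = b * (a * b) * a⁻¹ := by group
      _ = b * (b * a) * a⁻¹ := by rw [S.ab]
      _ = b * b := by group
  rw [h, ← S.inv_b, inv_inv]

theorem sx : s * x = x * s := by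
  have hc : Commute a b := S.ab
  have h : Commute s x := by
    rw [S.hs, S.hx]
    exact ((Commute.refl a).mul_right hc).mul_left (hc.symm.inv_left.mul_right (Commute.refl b).inv_left)
  exact h

theorem mem_iff {g : G} : g ∈ centralizer ({a, b} : Set G) ↔ g * s = s * g ∧ g * x = x * g := by
  rw [mem_cab]
  constructor
  · rintro ⟨h1, h2⟩
    have c1 : Commute g a := h1
    have c2 : Commute g b := h2
    refine ⟨?_, ?_⟩
    · have : Commute g s := by rw [S.hs]; exact c1.mul_right c2.inv_right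
      exact this
    · have : Commute g x := by rw [S.hx]; exact c1.mul_right c2
      exact this
  · rintro ⟨h1, h2⟩
    have c1 : Commute g s := h1
    have c2 : Commute g x := h2
    refine ⟨?_, ?_⟩
    · have : Commute g a := by rw [S.a_eq]; exact (c1.mul_right c2).inv_right
      exact this
    · have : Commute g b := by rw [S.b_eq]; exact (c2.mul_right c1.inv_right).inv_right
      exact this

theorem le_cs : centralizer ({a, b} : Set G) ≤ centralizer ({s} : Set G) := fun _ hg =>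
  mem_cs.2 (S.mem_iff.1 hg).1

theorem s_mem : s ∈ centralizer ({a, b} : Set G) := S.mem_iff.2 ⟨rfl, S.sx⟩

theorem x_mem : x ∈ centralizer ({a, b} : Set G) := S.mem_iff.2 ⟨S.sx.symm, rfl⟩

theorem s_clo : s ∈ closure ({a, b} : Set G) := by
  rw [S.hs]
  exact Subgroup.mul_mem _ (Subgroup.subset_closure (by simp)) (Subgroup.inv_mem _ (Subgroup.subset_closure (by simp)))

theorem x_clo : x ∈ closure ({a, b} : Set G) := by
  rw [S.hx]
  exact Subgroup.mul_mem _ (Subgroup.subset_closure (by simp)) (Subgroup.subset_closure (by simp))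

/-- `C(a, b) → C(s)/⟨s⟩` -/
def phi : ↥(centralizer ({a, b} : Set G)) →* XX s :=
  (QuotientGroup.mk' (Zx s)).comp (Subgroup.inclusion S.le_cs)

theorem phi_ker {g : ↥(centralizer ({a, b} : Set G))} : S.phi g = 1 ↔ (g : G) ∈ zpowers s := by
  have h : S.phi g = LThreeMB.mk s (S.mem_iff.1 g.2).1 := rfl
  rw [h, LThreeMB.mk_eq_one, Subgroup.mem_zpowers_iff]

/-- the subgroup `M` -/
def mM : Subgroup (XX s) := S.phi.range

/-- the subgroup `E` -/
def mE : Subgroup (XX s) := ((closure ({a, b} : Set G)).subgroupOf (centralizer ({a, b} : Set G))).map S.phi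

theorem mE_le : S.mE ≤ S.mM := by
  rintro _ ⟨g, -, rfl⟩
  exact ⟨g, rfl⟩

/-- the image of `x` -/
def xb : XX s := LThreeMB.mk s S.sx.symm

theorem xb_eq : S.phi ⟨x, S.x_mem⟩ = S.xb := rfl

theorem xb_cube : S.xb * (S.xb * S.xb) = 1 := by
  have h : (⟨x, S.x_mem⟩ : ↥(centralizer ({a, b} : Set G))) * (⟨x, S.x_mem⟩ * ⟨x, S.x_mem⟩) = 1 :=
    Subtype.ext S.x_cube
  rw [← xb_eq, ← map_mul, ← map_mul, h, map_one]

theorem xb_ne : S.xb ≠ 1 := by
  intro h
  rw [← xb_eq, S.phi_ker] at h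
  exact S.xs h

theorem xb_ord : orderOf S.xb = 3 := by
  have : Fact (Nat.Prime 3) := ⟨Nat.prime_three⟩
  refine orderOf_eq_prime ?_ S.xb_ne
  rw [pow_succ', pow_two]
  exact S.xb_cube

theorem mem_mM {c : G} (hc : c * s = s * c) : LThreeMB.mk s hc ∈ S.mM ↔ c * x = x * c := by
  constructor
  · rintro ⟨g, hg⟩
    have h1 : LThreeMB.mk s (S.mem_iff.1 g.2).1 = LThreeMB.mk s hc := hg
    rw [LThreeMB.mk_eq_mk] at h1
    obtain ⟨i, hi⟩ := h1
    have c1 : Commute (g : G) x := (S.mem_iff.1 g.2).2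
    have c2 : Commute (s ^ i) x := (show Commute s x from S.sx).zpow_left i
    rw [← hi]
    exact c1.mul_left c2
  · intro h
    exact ⟨⟨c, S.mem_iff.2 ⟨hc, h⟩⟩, rfl⟩

theorem mM_normal : S.mM.Normal where
  conj_mem := by
    intro m hm u
    obtain ⟨c, hc, rfl⟩ := LThreeMB.exists_mk u
    obtain ⟨g, hg, rfl⟩ := LThreeMB.exists_mk m
    have hgx := (S.mem_mM hg).1 hm
    have hci : c⁻¹ * s = s * c⁻¹ := (show Commute c s from hc).inv_left.eq
    have e1 : LThreeMB.mk s hc * LThreeMB.mk s hg * (LThreeMB.mk s hc)⁻¹ = LThreeMB.mk s (LThreeMB.conj_comm hc hg) := rfl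
    rw [e1, mem_mM]
    have h2 := S.nor c⁻¹ hci
    rw [inv_inv] at h2
    have h3 : g * (c⁻¹ * x * c) = (c⁻¹ * x * c) * g := by
      rcases h2 with h2 | h2
      · rw [h2]; exact hgx
      · rw [h2]; exact ((show Commute g x from hgx).inv_right).eq
    calc c * g * c⁻¹ * x = c * (g * (c⁻¹ * x * c)) * c⁻¹ := by group
      _ = c * ((c⁻¹ * x * c) * g) * c⁻¹ := by rw [h3]
      _ = x * (c * g * c⁻¹) := by group

theorem mE_eq : S.mE = zpowers S.xb := by
  apply le_antisymm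
  · rintro _ ⟨g, hg, rfl⟩
    have h1 : closure ({a, b} : Set G) ≤ ((zpowers S.xb).comap S.phi).map (centralizer ({a, b} : Set G)).subtype := by
      rw [Subgroup.closure_le]
      have ha : a ∈ centralizer ({a, b} : Set G) := mem_cab.2 ⟨rfl, S.ab⟩
      have hb : b ∈ centralizer ({a, b} : Set G) := mem_cab.2 ⟨S.ab.symm, rfl⟩
      have es : S.phi ⟨s, S.s_mem⟩ = 1 := S.phi_ker.2 (Subgroup.mem_zpowers s)
      intro y hy
      rcases hy with rfl | hy
      · refine ⟨⟨y, ha⟩, ?_, rfl⟩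
        have h2 : (⟨y, ha⟩ : ↥(centralizer ({y, b} : Set G))) = (⟨s, S.s_mem⟩ * ⟨x, S.x_mem⟩)⁻¹ :=
          Subtype.ext S.a_eq
        show S.phi ⟨y, ha⟩ ∈ zpowers S.xb
        rw [h2, map_inv, map_mul, es, one_mul, xb_eq]
        exact Subgroup.inv_mem _ (Subgroup.mem_zpowers _)
      · rw [Set.mem_singleton_iff] at hy
        subst hy
        refine ⟨⟨y, hb⟩, ?_, rfl⟩
        have h2 : (⟨y, hb⟩ : ↥(centralizer ({a, y} : Set G))) = (⟨x, S.x_mem⟩ * (⟨s, S.s_mem⟩)⁻¹)⁻¹ :=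
          Subtype.ext S.b_eq
        show S.phi ⟨y, hb⟩ ∈ zpowers S.xb
        rw [h2, map_inv, map_mul, map_inv, es, inv_one, mul_one, xb_eq]
        exact Subgroup.inv_mem _ (Subgroup.mem_zpowers _)
    obtain ⟨g', hg', he⟩ := h1 (Subgroup.mem_subgroupOf.1 hg)
    have he' : g' = g := Subtype.ext he
    rw [← he']
    exact hg'
  · rw [Subgroup.zpowers_le]
    exact ⟨⟨x, S.x_mem⟩, Subgroup.mem_subgroupOf.2 S.x_clo, rfl⟩

theorem card_mE : Nat.card ↥S.mE = 3 := by
  rw [mE_eq, Nat.card_zpowers, xb_ord]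

theorem conj_xb (u : XX s) : u * S.xb * u⁻¹ = S.xb ∨ u * S.xb * u⁻¹ = S.xb⁻¹ := by
  obtain ⟨c, hc, rfl⟩ := LThreeMB.exists_mk u
  have e1 : LThreeMB.mk s hc * S.xb * (LThreeMB.mk s hc)⁻¹ = LThreeMB.mk s (LThreeMB.conj_comm hc S.sx.symm) := rfl
  rcases S.nor c hc with h | h
  · left
    rw [e1]
    exact LThreeMB.mk_congr _ _ h
  · right
    have hxi : x⁻¹ * s = s * x⁻¹ := (show Commute x s from S.sx.symm).inv_left.eq
    have e2 : S.xb⁻¹ = LThreeMB.mk s hxi := rfl
    rw [e1, e2]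
    exact LThreeMB.mk_congr _ _ h

theorem mE_normal : S.mE.Normal where
  conj_mem := by
    intro m hm u
    rw [mE_eq] at hm ⊢
    obtain ⟨i, rfl⟩ := hm
    show u * S.xb ^ i * u⁻¹ ∈ _
    rw [← conj_zpow]
    rcases S.conj_xb u with h | h <;> rw [h]
    · exact Subgroup.zpow_mem _ (Subgroup.mem_zpowers _) _
    · exact Subgroup.zpow_mem _ (Subgroup.inv_mem _ (Subgroup.mem_zpowers _)) _

theorem x_ne_inv : x ≠ x⁻¹ := by
  intro h
  have h1 : x * x = 1 := by
    nth_rewrite 1 [h]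
    rw [inv_mul_cancel]
  have h2 := S.x_cube
  rw [h1, mul_one] at h2
  exact S.xs (h2 ▸ Subgroup.one_mem _)

theorem mM_index : S.mM.index = 2 := by
  rw [Subgroup.index_eq_two_iff]
  refine ⟨LThreeMB.mk s S.ts, fun u => ?_⟩
  obtain ⟨c, hc, rfl⟩ := LThreeMB.exists_mk u
  have hct : (c * t) * s = s * (c * t) := by
    rw [mul_assoc, S.ts, ← mul_assoc, hc, mul_assoc]
  have e1 : LThreeMB.mk s hc * LThreeMB.mk s S.ts = LThreeMB.mk s hct := rfl
  have htx : t * x = x⁻¹ * t := by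
    have := S.tx
    rw [mul_inv_eq_iff_eq_mul] at this
    exact this
  rw [e1, S.mem_mM, S.mem_mM]
  rcases S.nor c hc with h | h
  · have hcx : c * x = x * c := by
      rw [mul_inv_eq_iff_eq_mul] at h
      exact h
    right
    refine ⟨hcx, fun h1 => ?_⟩
    have h2 : (c * t) * x = x⁻¹ * (c * t) := by
      calc (c * t) * x = c * (t * x) := by group
        _ = c * x⁻¹ * t := by rw [htx]; group
        _ = x⁻¹ * c * t := by rw [((show Commute c x from hcx).inv_right).eq]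
        _ = x⁻¹ * (c * t) := by group
    rw [h1] at h2
    exact S.x_ne_inv (mul_right_cancel h2)
  · have hcx : c * x = x⁻¹ * c := by
      rw [mul_inv_eq_iff_eq_mul] at h
      exact h
    have hcx' : c * x⁻¹ = x * c := by
      calc c * x⁻¹ = x * (x⁻¹ * c) * x⁻¹ := by group
        _ = x * (c * x) * x⁻¹ := by rw [hcx]
        _ = x * c := by group
    left
    refine ⟨?_, fun h1 => ?_⟩
    · calc (c * t) * x = c * (t * x) := by group
        _ = c * x⁻¹ * t := by rw [htx]; group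
        _ = x * c * t := by rw [hcx']
        _ = x * (c * t) := by group
    · rw [h1] at hcx
      exact S.x_ne_inv (mul_right_cancel hcx)

/-- `C(a, b)/⟨a, b⟩ ≅ M/E` -/
theorem equiv [((closure ({a, b} : Set G)).subgroupOf (centralizer ({a, b} : Set G))).Normal] [S.mE.Normal] :
    Nonempty (↥(centralizer ({a, b} : Set G)) ⧸ (closure ({a, b} : Set G)).subgroupOf (centralizer ({a, b} : Set G)) ≃*
      ↥S.mM ⧸ S.mE.subgroupOf S.mM) := by
  obtain ⟨r, hr, hrs⟩ : ∃ r : ↥(centralizer ({a, b} : Set G)) →* ↥S.mM, (∀ g, (r g : XX s) = S.phi g) ∧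
      Function.Surjective r := ⟨S.phi.rangeRestrict, fun _ => rfl, S.phi.rangeRestrict_surjective⟩
  set q : ↥(centralizer ({a, b} : Set G)) →* ↥S.mM ⧸ S.mE.subgroupOf S.mM :=
    (QuotientGroup.mk' (S.mE.subgroupOf S.mM)).comp r with hq
  have hsurj : Function.Surjective q :=
    (QuotientGroup.mk'_surjective _).comp hrs
  have hker : q.ker = (closure ({a, b} : Set G)).subgroupOf (centralizer ({a, b} : Set G)) := by
    ext g
    rw [MonoidHom.mem_ker]
    have h1 : q g = 1 ↔ S.phi g ∈ S.mE := by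
      show (QuotientGroup.mk (r g) : ↥S.mM ⧸ S.mE.subgroupOf S.mM) = 1 ↔ _
      rw [QuotientGroup.eq_one_iff, Subgroup.mem_subgroupOf, hr]
    rw [h1]
    constructor
    · intro h
      rw [mE_eq, Subgroup.mem_zpowers_iff] at h
      obtain ⟨i, hi⟩ := h
      rw [← xb_eq, ← map_zpow] at hi
      have h2 : S.phi (g * ((⟨x, S.x_mem⟩ : ↥(centralizer ({a, b} : Set G))) ^ i)⁻¹) = 1 := by
        rw [map_mul, map_inv, hi, mul_inv_cancel]
      rw [S.phi_ker] at h2
      rw [Subgroup.mem_subgroupOf]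
      have h3 : (g : G) = (g * ((⟨x, S.x_mem⟩ : ↥(centralizer ({a, b} : Set G))) ^ i)⁻¹ : ↥(centralizer ({a, b} : Set G))) *
          x ^ i := by
        show (g : G) = ((g : G) * (((⟨x, S.x_mem⟩ : ↥(centralizer ({a, b} : Set G))) ^ i : ↥(centralizer ({a, b} : Set G))) : G)⁻¹) * x ^ i
        rw [Subgroup.coe_zpow, inv_mul_cancel_right]
      rw [h3]
      refine Subgroup.mul_mem _ ?_ (Subgroup.zpow_mem _ S.x_clo _)
      exact (Subgroup.zpowers_le.2 S.s_clo) h2
    · intro h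
      exact ⟨g, h, rfl⟩
  exact ⟨(QuotientGroup.quotientMulEquivOfEq hker.symm).trans (QuotientGroup.quotientKerEquivOfSurjective q hsurj)⟩

/-- **`O_2(C(s)/⟨s⟩) = 1`.** -/
theorem oTwo [Finite G] [((closure ({a, b} : Set G)).subgroupOf (centralizer ({a, b} : Set G))).Normal]
    (hsim : IsSimpleGroup (↥(centralizer ({a, b} : Set G)) ⧸
      (closure ({a, b} : Set G)).subgroupOf (centralizer ({a, b} : Set G))))
    (hnc : ¬ IsMulCommutative (↥(centralizer ({a, b} : Set G)) ⧸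
      (closure ({a, b} : Set G)).subgroupOf (centralizer ({a, b} : Set G))))
    (N : Subgroup (XX s)) (hN : N.Normal) (h2 : IsPGroup 2 ↥N) : N = ⊥ := by
  have hEn := S.mE_normal
  have hMn := S.mM_normal
  obtain ⟨e⟩ := S.equiv
  have hsim' : IsSimpleGroup (↥S.mM ⧸ S.mE.subgroupOf S.mM) := by
    have : Nontrivial (↥S.mM ⧸ S.mE.subgroupOf S.mM) := e.symm.toEquiv.nontrivial
    exact IsSimpleGroup.isSimpleGroup_of_surjective e.toMonoidHom e.surjective
  have hnc' : ¬ IsMulCommutative (↥S.mM ⧸ S.mE.subgroupOf S.mM) := by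
    intro h
    apply hnc
    refine ⟨⟨fun p q => e.injective ?_⟩⟩
    rw [map_mul, map_mul]
    exact h.is_comm.comm _ _
  -- `N ⊓ M = 1`
  have hNM : N ⊓ S.mM = ⊥ := by
    set K : Subgroup (↥S.mM ⧸ S.mE.subgroupOf S.mM) := (N.subgroupOf S.mM).map (QuotientGroup.mk' (S.mE.subgroupOf S.mM))
      with hK
    have hKn : K.Normal := Subgroup.Normal.map (Subgroup.normal_subgroupOf) _ (QuotientGroup.mk'_surjective _)
    have hK2 : IsPGroup 2 ↥K := by
      have h3 : IsPGroup 2 ↥(N.subgroupOf S.mM) := by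
        have h4 : IsPGroup 2 ↥(N ⊓ S.mM : Subgroup (XX s)) := h2.to_le inf_le_left
        have h5 : IsPGroup 2 ↥((N ⊓ S.mM).subgroupOf S.mM) :=
          h4.of_equiv (Subgroup.subgroupOfEquivOfLe inf_le_right).symm
        rwa [Subgroup.inf_subgroupOf_right] at h5
      exact h3.map _
    rcases hKn.eq_bot_or_eq_top with h3 | h3
    · rw [eq_bot_iff]
      rintro n ⟨hn, hm⟩
      have h4 : (QuotientGroup.mk' (S.mE.subgroupOf S.mM)) ⟨n, hm⟩ ∈ K :=
        Subgroup.mem_map_of_mem _ (Subgroup.mem_subgroupOf.2 hn)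
      rw [h3, Subgroup.mem_bot] at h4
      have h5 : n ∈ S.mE := by
        have := (QuotientGroup.eq_one_iff _).1 h4
        exact Subgroup.mem_subgroupOf.1 this
      rw [Subgroup.mem_bot, ← orderOf_eq_one_iff]
      have h6 : orderOf n ∣ 3 := by
        rw [← S.card_mE]
        have := orderOf_dvd_natCard (⟨n, h5⟩ : ↥S.mE)
        rwa [Subgroup.orderOf_mk] at this
      obtain ⟨k, hk⟩ := h2 ⟨n, hn⟩
      have h7 : n ^ 2 ^ k = 1 := congrArg Subtype.val hk
      have h8 : orderOf n ∣ 2 ^ k := orderOf_dvd_of_pow_eq_one h7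
      exact Nat.eq_one_of_dvd_coprimes (Nat.Coprime.pow_right k (by norm_num : Nat.Coprime 3 2)) h6 h8
    · exfalso
      apply hnc'
      have h4 : IsPGroup 2 (↥S.mM ⧸ S.mE.subgroupOf S.mM) := by
        rw [h3] at hK2
        exact hK2.of_equiv Subgroup.topEquiv
      exact comm_of_simple_two h4
  rw [eq_bot_iff]
  intro n hn
  rw [Subgroup.mem_bot]
  by_contra hne
  have hnM : n ∉ S.mM := fun h => hne (by
    have : n ∈ N ⊓ S.mM := ⟨hn, h⟩
    rwa [hNM, Subgroup.mem_bot] at this)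
  have hinv : n * S.xb * n⁻¹ = S.xb⁻¹ := by
    obtain ⟨c, hc, rfl⟩ := LThreeMB.exists_mk n
    rcases S.nor c hc with h | h
    · exfalso
      apply hnM
      rw [S.mem_mM]
      rw [mul_inv_eq_iff_eq_mul] at h
      exact h
    · have e1 : LThreeMB.mk s hc * S.xb * (LThreeMB.mk s hc)⁻¹ = LThreeMB.mk s (LThreeMB.conj_comm hc S.sx.symm) := rfl
      have hxi : x⁻¹ * s = s * x⁻¹ := (show Commute x s from S.sx.symm).inv_left.eq
      have e2 : S.xb⁻¹ = LThreeMB.mk s hxi := rfl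
      rw [e1, e2]
      exact LThreeMB.mk_congr _ _ h
  have h3 : S.xb⁻¹ * S.xb⁻¹ ∈ N := by
    have h4 : n * (S.xb * n⁻¹ * S.xb⁻¹) ∈ N := N.mul_mem hn (hN.conj_mem _ (N.inv_mem hn) _)
    have h5 : n * (S.xb * n⁻¹ * S.xb⁻¹) = S.xb⁻¹ * S.xb⁻¹ := by
      rw [← hinv]; group
    rwa [h5] at h4
  have h4 : S.xb⁻¹ * S.xb⁻¹ ∈ S.mM := by
    have : S.xb ∈ S.mM := ⟨⟨x, S.x_mem⟩, rfl⟩
    exact S.mM.mul_mem (S.mM.inv_mem this) (S.mM.inv_mem this)
  have h5 : S.xb⁻¹ * S.xb⁻¹ ∈ N ⊓ S.mM := ⟨h3, h4⟩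
  rw [hNM, Subgroup.mem_bot] at h5
  have h6 := S.xb_cube
  have h7 : S.xb * S.xb = 1 := by
    have := congrArg (fun y => y⁻¹) h5
    simpa only [mul_inv_rev, inv_inv, inv_one] using this
  rw [h7, mul_one] at h6
  exact S.xb_ne h6

end Sit

end Cfsg.Agent.LThreeCo1TwB.Pass
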